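import Cfsg.Agent.Lib.Characters.Clifford
import Cfsg.Agent.Lib.Characters.Kernel
import Cfsg.Agent.Lib.Characters.InducedReal
import Cfsg.Agent.Lib.Characters.ExtensionChar
import Cfsg.Agent.Lib.Characters.SchurPSolvable
import Cfsg.Agent.Lib.CharMisc.ResidualCount
import Cfsg.Agent.Lib.Harada.GoodChar
import Cfsg.Agent.Lib.Glauberman.Relative
import Cfsg.Agent.Lib.Glauberman.Equivariance

/-!
# Real characters of odd degree: generic facts
-/

set_option autoImplicit false
set_option linter.unusedSectionVars false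
set_option linter.style.haveILetI false

namespace Cfsg.Agent.Lib.OddRealCount

open Cfsg Cfsg.Agent.Lib.Characters Cfsg.Agent.Lib.CharMisc
open Cfsg.Agent.Lib.Glauberman (starIrr starIrr_apply starIrr_eq_self_iff)
open scoped ComplexConjugate

universe u v

variable {X : Type u} [Group X]

/-- Real of odd degree. -/
def RO (χ : IrrCharacter X) : Prop :=
  (∀ g : X, ((χ : X → ℂ) g).im = 0) ∧ Odd (charDegree (χ : X → ℂ))

/-- The number of real irreducible characters of odd degree. -/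
noncomputable def R (X : Type u) [Group X] : ℕ := Nat.card {χ : IrrCharacter X // RO χ}

/-- A complex valued function. -/
def cf {M : Subgroup X} (θ : M →* ℂˣ) : M → ℂ := fun m => (θ m : ℂ)

/-- The restriction to `M` is a multiple of the linear character `θ`. -/
def Iso (M : Subgroup X) (θ : M →* ℂˣ) (χ : X → ℂ) : Prop :=
  ∀ m : M, χ m = χ 1 * (θ m : ℂ)

theorem isIrr_cf {M : Subgroup X} (θ : M →* ℂˣ) : IsIrrCharacter M (cf θ) :=
  isIrrCharacter_unitsHom θ

theorem cf_injective {M : Subgroup X} {θ θ' : M →* ℂˣ} (h : cf θ = cf θ') : θ = θ' :=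
  MonoidHom.ext fun m => Units.ext (congrFun h m)

theorem exists_hom_of_comm [Finite X] {M : Subgroup X} (hM : ∀ a b : M, a * b = b * a)
    (χ : IrrCharacter M) : ∃ θ : M →* ℂˣ, (χ : M → ℂ) = cf θ :=
  IsCharacter.exists_hom_of_apply_one (irr_isCharacter χ)
    (IsIrrCharacter.apply_one_of_comm hM χ.2)

theorem mul_self_of_real {z : ℂˣ} {k : ℕ} (hk : k ≠ 0) (h1 : z ^ k = 1) (hr : conj (z : ℂ) = z) :
    z * z = 1 := by
  refine Units.ext ?_
  have hn : ‖(z : ℂ)‖ = 1 := Complex.norm_eq_one_of_pow_eq_one (by rw [← Units.val_pow_eq_pow_val, h1, Units.val_one]) hk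
  rw [Units.val_mul, Units.val_one]
  nth_rewrite 2 [← hr]
  rw [Complex.mul_conj, Complex.normSq_eq_norm_sq, hn, one_pow, Complex.ofReal_one]

theorem real_of_mul_self {z : ℂˣ} (h : z * z = 1) : ((z : ℂ)).im = 0 := by
  have h1 : (z : ℂ) * z = 1 := by rw [← Units.val_mul, h, Units.val_one]
  rcases mul_self_eq_one_iff.1 h1 with h2 | h2 <;> simp [h2]

theorem conj_eq_of_mul_self {z : ℂˣ} (h : z * z = 1) : conj (z : ℂ) = z :=
  Complex.conj_eq_iff_im.2 (real_of_mul_self h)

/-- A character of odd degree has an irreducible constituent of odd degree. -/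
theorem exists_odd_constituent [Fintype X] {φ : X → ℂ} (hφ : IsCharacter X φ) {d : ℕ}
    (hd : φ 1 = d) (hodd : Odd d) :
    ∃ χ : IrrCharacter X, Odd (charDegree (χ : X → ℂ)) ∧ classInner φ (χ : X → ℂ) ≠ 0 := by
  classical
  haveI := Fintype.ofFinite (IrrCharacter X)
  choose m hm using fun χ : IrrCharacter X => IsCharacter.exists_classInner_nat hφ (irr_isCharacter χ)
  have h1 := congrFun (eq_sum_classInner (IsCharacter.isClassFunction hφ)) 1
  simp only [Finset.sum_apply, Pi.smul_apply, smul_eq_mul, hm, charDegree_coe, hd] at h1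
  have h2 : d = ∑ χ, m χ * charDegree (χ : X → ℂ) := by exact_mod_cast h1
  by_contra hcon
  push Not at hcon
  have h3 : Even (∑ χ, m χ * charDegree (χ : X → ℂ)) := by
    refine even_iff_two_dvd.2 (Finset.dvd_sum fun χ _ => ?_)
    by_cases h : Odd (charDegree (χ : X → ℂ))
    · have := hcon χ h
      rw [hm, Nat.cast_eq_zero] at this
      rw [this, zero_mul]; exact dvd_zero _
    · exact dvd_mul_of_dvd_right (even_iff_two_dvd.1 (Nat.not_odd_iff_even.1 h)) _
  rw [← h2] at h3
  exact Nat.not_even_iff_odd.2 hodd h3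

/-- A real character of odd degree has a real irreducible constituent of odd degree. -/
theorem exists_ro_constituent [Fintype X] {φ : X → ℂ} (hφ : IsCharacter X φ) {d : ℕ}
    (hd : φ 1 = d) (hodd : Odd d) (hreal : ∀ g, conj (φ g) = φ g) :
    ∃ χ : IrrCharacter X, RO χ ∧ classInner φ (χ : X → ℂ) ≠ 0 := by
  classical
  haveI := Fintype.ofFinite (IrrCharacter X)
  choose m hm using fun χ : IrrCharacter X => IsCharacter.exists_classInner_nat hφ (irr_isCharacter χ)
  have h1 := congrFun (eq_sum_classInner (IsCharacter.isClassFunction hφ)) 1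
  simp only [Finset.sum_apply, Pi.smul_apply, smul_eq_mul, hm, charDegree_coe, hd] at h1
  have h2 : d = ∑ χ, m χ * charDegree (χ : X → ℂ) := by exact_mod_cast h1
  have hstar : ∀ χ : IrrCharacter X, m (starIrr χ) = m χ ∧
      charDegree (starIrr χ : X → ℂ) = charDegree (χ : X → ℂ) := by
    intro χ
    constructor
    · have h4 := congrArg conj (hm χ)
      rw [map_natCast, classInner, map_mul, map_inv₀, map_natCast, map_sum] at h4
      have h5 : classInner φ (starIrr χ : X → ℂ) = (m χ : ℂ) := by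
        rw [classInner, ← h4]
        congr 1
        exact Finset.sum_congr rfl fun g _ => by rw [map_mul, hreal, starIrr_apply]
      exact_mod_cast (hm (starIrr χ)).symm.trans h5
    · have h6 : (starIrr χ : X → ℂ) 1 = (charDegree (χ : X → ℂ) : ℂ) := by
        rw [starIrr_apply, charDegree_coe, map_natCast]
      exact charDegree_of_apply_one h6
  by_contra hcon
  push Not at hcon
  have hzero : (∑ χ : IrrCharacter X, ((m χ * charDegree (χ : X → ℂ) : ℕ) : ZMod 2)) = 0 := by
    refine Finset.sum_involution (fun χ _ => starIrr χ) (fun χ _ => ?_) (fun χ _ hne he => ?_)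
      (fun χ _ => Finset.mem_univ _) (fun χ _ => Subtype.ext (funext fun g => ?_))
    · rw [(hstar χ).1, (hstar χ).2]
      exact CharTwo.add_self_eq_zero _
    · apply hne
      rcases Nat.even_or_odd (charDegree (χ : X → ℂ)) with h | h
      · rw [Nat.cast_mul, (ZMod.natCast_eq_zero_iff_even).2 h, mul_zero]
      · have h4 := hcon χ ⟨(starIrr_eq_self_iff χ).1 he, h⟩
        rw [hm, Nat.cast_eq_zero] at h4
        rw [h4, zero_mul, Nat.cast_zero]
    · exact Complex.conj_conj _
  rw [← Nat.cast_sum, ← h2, ZMod.natCast_eq_zero_iff_even] at hzero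
  exact Nat.not_even_iff_odd.2 hodd hzero

/-- Constituents of isotypic characters are isotypic. -/
theorem iso_of_constituent [Fintype X] {M : Subgroup X} [Fintype M] {θ : M →* ℂˣ} {φ : X → ℂ}
    (hφ : IsCharacter X φ) (hiso : Iso M θ φ) (χ : IrrCharacter X)
    (hc : classInner φ (χ : X → ℂ) ≠ 0) : Iso M θ (χ : X → ℂ) := by
  classical
  haveI := Fintype.ofFinite (IrrCharacter M)
  obtain ⟨ψ, hψ, hdec⟩ := IsCharacter.exists_add_of_classInner_ne_zero hφ χ.2 hc
  have hres := IsCharacter.restrict (irr_isCharacter χ) M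
  set T : IrrCharacter M := ⟨cf θ, isIrr_cf θ⟩
  have hz : ∀ η : IrrCharacter M, η ≠ T → classInner (fun m : M => (χ : X → ℂ) m) (η : M → ℂ) = 0 := by
    intro η hη
    by_contra h
    have h1 : classInner (fun m : M => φ m) (η : M → ℂ) ≠ 0 := by
      rw [hdec]
      exact IsCharacter.classInner_ne_zero_of_add hres (IsCharacter.restrict hψ M) (irr_isCharacter η) h
    apply h1
    rw [show (fun m : M => φ m) = φ 1 • cf θ from funext hiso, classInner_smul_left,
      IsIrrCharacter.classInner_ne (isIrr_cf θ) η.2 (fun e => hη (Subtype.ext e.symm)), mul_zero]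
  have h2 := eq_sum_classInner (IsCharacter.isClassFunction hres)
  rw [Finset.sum_eq_single T (fun η _ hη => by rw [hz η hη, zero_smul])
    (fun h => absurd (Finset.mem_univ T) h)] at h2
  set c := classInner (fun m : M => (χ : X → ℂ) m) (T : M → ℂ)
  intro m
  have h3 : ∀ m : M, (χ : X → ℂ) m = c * (θ m : ℂ) := fun m => congrFun h2 m
  have h4 := h3 1
  rw [map_one, Units.val_one, mul_one, OneMemClass.coe_one] at h4
  rw [h3 m, h4]

/-- A constituent of an invariant linear character is isotypic. -/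
theorem iso_of_invariant [Fintype X] {M : Subgroup X} [M.Normal] [Fintype M] {θ : M →* ℂˣ}
    (hinv : ∀ g : X, Characters.conjFun M g (cf θ) = cf θ) (χ : IrrCharacter X)
    (hc : classInner (fun m : M => (χ : X → ℂ) m) (cf θ) ≠ 0) : Iso M θ (χ : X → ℂ) := by
  have h := restrict_eq_smul_of_invariant M χ.2 (isIrr_cf θ) hinv hc
  set c := classInner (fun m : M => (χ : X → ℂ) m) (cf θ)
  have h3 : ∀ m : M, (χ : X → ℂ) m = c * (θ m : ℂ) := fun m => congrFun h m
  intro m
  have h4 := h3 1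
  rw [map_one, Units.val_one, mul_one, OneMemClass.coe_one] at h4
  rw [h3 m, h4]

/-- An isotypic character has the linear character as a constituent. -/
theorem classInner_ne_of_iso [Fintype X] {M : Subgroup X} [Fintype M] {θ : M →* ℂˣ} (χ : IrrCharacter X)
    (h : Iso M θ (χ : X → ℂ)) : classInner (fun m : M => (χ : X → ℂ) m) (cf θ) ≠ 0 := by
  rw [show (fun m : M => (χ : X → ℂ) m) = (χ : X → ℂ) 1 • cf θ from funext h, classInner_smul_left,
    IsIrrCharacter.classInner_self (isIrr_cf θ), mul_one]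
  exact IsIrrCharacter.apply_one_ne_zero χ.2

/-- The determinant of an isotypic character of odd degree extends `θ`. -/
theorem exists_det [Finite X] {M : Subgroup X} {θ : M →* ℂˣ} (hθ : ∀ m, θ m * θ m = 1)
    (χ : IrrCharacter X) (hodd : Odd (charDegree (χ : X → ℂ))) (hiso : Iso M θ (χ : X → ℂ)) :
    ∃ d : X →* ℂˣ, (∀ m : M, d m = θ m) ∧
      ((∀ g, ((χ : X → ℂ) g).im = 0) → ∀ x, d x * d x = 1) := by
  obtain ⟨d, hd⟩ := Harada.exists_detChar_hom (irr_isCharacter χ)
  set n := charDegree (χ : X → ℂ) with hn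
  refine ⟨d, fun m => Units.ext ?_, fun hr x => ?_⟩
  · rw [← hd]
    have h1 := detChar_comp (G := X) M.subtype (irr_isCharacter χ)
    have h2 : (χ : X → ℂ) ∘ M.subtype = (n : ℂ) • cf θ := funext fun m => by
      show (χ : X → ℂ) m = _
      rw [hiso m, charDegree_coe, ← hn]
      rfl
    rw [h2] at h1
    have h3 := congrFun h1 m
    rw [Harada.detChar_natCast_smul (IsIrrCharacter.isCharacter (isIrr_cf θ))] at h3
    rw [show detChar (cf θ) = cf θ from detChar_of_linear θ] at h3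
    show detChar (χ : X → ℂ) m = _
    rw [show detChar (χ : X → ℂ) m = (detChar (χ : X → ℂ) ∘ M.subtype) m from rfl, ← h3]
    show (θ m : ℂ) ^ n = _
    rw [← Units.val_pow_eq_pow_val]
    congr 1
    obtain ⟨j, hj⟩ := hodd
    rw [hj, pow_succ, pow_mul, pow_two, hθ, one_pow, one_mul]
  · have hk : d x ^ Nat.card X = 1 := by rw [← map_pow, pow_card_eq_one', map_one]
    refine mul_self_of_real Nat.card_pos.ne' hk ?_
    rw [← hd]
    have h := congrFun (detChar_complexAut (starRingAut (R := ℂ)) (irr_isCharacter χ)) x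
    rw [show (fun g => starRingAut ((χ : X → ℂ) g)) = (χ : X → ℂ) from
      funext fun g => Complex.conj_eq_iff_im.2 (hr g)] at h
    exact h.symm

theorem charDegree_mul (χ : IrrCharacter X) (d : X →* ℂˣ) :
    charDegree ((χ : X → ℂ) * fun g => (d g : ℂ)) = charDegree (χ : X → ℂ) := by
  unfold charDegree
  simp

/-- Twisting by a real linear extension. -/
theorem iso_mul {M : Subgroup X} {θ θ' : M →* ℂˣ} {χ : X → ℂ} (h : Iso M θ χ) (d : X →* ℂˣ)
    (hd : ∀ m : M, θ m * d m = θ' m) : Iso M θ' (χ * fun g => (d g : ℂ)) := by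
  intro m
  simp only [Pi.mul_apply, map_one, Units.val_one, mul_one]
  rw [h m, mul_assoc, ← Units.val_mul, hd]

theorem ro_mul [Finite X] {χ : IrrCharacter X} (h : RO χ) (d : X →* ℂˣ) (hd : ∀ x, d x * d x = 1) :
    haveI := Fintype.ofFinite X
    RO (⟨_, isIrr_mul_linear χ.2 d⟩ : IrrCharacter X) := by
  haveI := Fintype.ofFinite X
  refine ⟨fun g => ?_, ?_⟩
  · show ((χ : X → ℂ) g * (d g : ℂ)).im = 0
    simp [Complex.mul_im, h.1 g, real_of_mul_self (hd g)]
  · show Odd (charDegree ((χ : X → ℂ) * fun g => (d g : ℂ)))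
    rw [charDegree_mul]
    exact h.2

theorem card_iso_eq_one [Finite X] {M : Subgroup X} (θ : M →* ℂˣ) (d : X →* ℂˣ)
    (hd : ∀ x, d x * d x = 1) (hdM : ∀ m : M, d m = θ m) :
    Nat.card {χ : IrrCharacter X // RO χ ∧ Iso M θ χ.1} =
      Nat.card {χ : IrrCharacter X // RO χ ∧ Iso M 1 χ.1} := by
  haveI := Fintype.ofFinite X
  have hsq : ∀ m : M, θ m * d m = 1 := fun m => by rw [← hdM]; exact hd _
  refine Nat.card_congr
    { toFun := fun χ => ⟨⟨_, isIrr_mul_linear χ.1.2 d⟩, ro_mul χ.2.1 d hd,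
        iso_mul χ.2.2 d (fun m => by rw [hsq]; rfl)⟩
      invFun := fun χ => ⟨⟨_, isIrr_mul_linear χ.1.2 d⟩, ro_mul χ.2.1 d hd,
        iso_mul χ.2.2 d (fun m => by rw [hdM]; exact one_mul _)⟩
      left_inv := fun χ => ?_
      right_inv := fun χ => ?_ }
  all_goals
    refine Subtype.ext (Subtype.ext (funext fun g => ?_))
    show (χ.1 : X → ℂ) g * (d g : ℂ) * (d g : ℂ) = (χ.1 : X → ℂ) g
    rw [mul_assoc, ← Units.val_mul, hd, Units.val_one, mul_one]

section Quot

variable {Y : Type v} [Group Y] (f : X →* Y)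

theorem charDegree_comp (ψ : Y → ℂ) : charDegree (ψ ∘ f) = charDegree ψ := by
  unfold charDegree
  simp

theorem iso_comp {M : Subgroup X} (hM : M ≤ f.ker) (ψ : Y → ℂ) : Iso M 1 (ψ ∘ f) := by
  intro m
  have : f (m : X) = 1 := hM m.2
  simp [this]

theorem exists_eq_comp [Finite X] (hf : Function.Surjective f) {M : Subgroup X} (hker : f.ker = M)
    (χ : IrrCharacter X) (h : Iso M 1 (χ : X → ℂ)) :
    ∃ ψ : IrrCharacter Y, (χ : X → ℂ) = (ψ : Y → ℂ) ∘ f := by
  obtain ⟨ψ, hψ, he⟩ := IsIrrCharacter.exists_quotient χ.2 f.ker (fun n hn => by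
    have h1 : n ∈ M := hker ▸ hn
    simpa using h ⟨n, h1⟩)
  refine ⟨⟨_, IsIrrCharacter.comp_equiv hψ (QuotientGroup.quotientKerEquivOfSurjective f hf).symm⟩, ?_⟩
  rw [he]
  funext x
  show ψ _ = ψ _
  congr 1
  rw [eq_comm, MulEquiv.symm_apply_eq]
  rfl

theorem card_iso_one [Finite X] (hf : Function.Surjective f) {M : Subgroup X} (hker : f.ker = M) :
    Nat.card {χ : IrrCharacter X // RO χ ∧ Iso M 1 χ.1} = R Y := by
  refine (Nat.card_eq_of_bijective (fun ψ : {ψ : IrrCharacter Y // RO ψ} =>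
    (⟨⟨_, IsIrrCharacter.comp_surjective ψ.1.2 f hf⟩, ⟨fun g => ψ.2.1 (f g), ?_⟩,
      iso_comp f hker.ge _⟩ : {χ : IrrCharacter X // RO χ ∧ Iso M 1 χ.1})) ⟨?_, ?_⟩).symm
  · show Odd (charDegree ((ψ.1 : Y → ℂ) ∘ f))
    rw [charDegree_comp]
    exact ψ.2.2
  · intro a b h
    have h' := congrArg (fun z => ((z.1 : IrrCharacter X) : X → ℂ)) h
    exact Subtype.ext (Subtype.ext (funext fun y => by
      obtain ⟨x, rfl⟩ := hf y
      exact congrFun h' x))
  · rintro ⟨χ, hro, hiso⟩
    obtain ⟨ψ, hψ⟩ := exists_eq_comp f hf hker χ hiso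
    refine ⟨⟨ψ, fun y => ?_, ?_⟩, Subtype.ext (Subtype.ext hψ.symm)⟩
    · obtain ⟨x, rfl⟩ := hf y
      have := hro.1 x
      rwa [hψ] at this
    · rw [← charDegree_comp f, ← hψ]
      exact hro.2

theorem ro_iso_zero_or [Finite X] (hf : Function.Surjective f) {M : Subgroup X} (hker : f.ker = M)
    {θ : M →* ℂˣ} (hθ : ∀ m, θ m * θ m = 1) :
    (∀ d : X →* ℂˣ, (∀ x, d x * d x = 1) → ¬ ∀ m : M, d m = θ m) ∧
        Nat.card {χ : IrrCharacter X // RO χ ∧ Iso M θ χ.1} = 0 ∨
    (∃ d : X →* ℂˣ, (∀ x, d x * d x = 1) ∧ ∀ m : M, d m = θ m) ∧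
        Nat.card {χ : IrrCharacter X // RO χ ∧ Iso M θ χ.1} = R Y := by
  by_cases h : ∃ d : X →* ℂˣ, (∀ x, d x * d x = 1) ∧ ∀ m : M, d m = θ m
  · obtain ⟨d, h1, h2⟩ := h
    exact Or.inr ⟨⟨d, h1, h2⟩, (card_iso_eq_one θ d h1 h2).trans (card_iso_one f hf hker)⟩
  · refine Or.inl ⟨fun d h1 h2 => h ⟨d, h1, h2⟩, ?_⟩
    haveI : IsEmpty {χ : IrrCharacter X // RO χ ∧ Iso M θ χ.1} := ⟨fun χ => by
      obtain ⟨d, h1, h2⟩ := exists_det hθ χ.1 χ.2.1.2 χ.2.2
      exact h ⟨d, h2 χ.2.1.1, h1⟩⟩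
    exact Nat.card_of_isEmpty

end Quot

end Cfsg.Agent.Lib.OddRealCount
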