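import Cfsg.Agent.Lib.OddRealCount.Over
import Mathlib.GroupTheory.Solvable

/-!
# The number of real characters of odd degree of a solvable group
-/

set_option autoImplicit false
set_option linter.unusedSectionVars false
set_option linter.style.haveILetI false

namespace Cfsg.Agent.Lib.OddRealCount

open Cfsg Cfsg.Agent.Lib.Characters Cfsg.Agent.Lib.CharMisc
open scoped ComplexConjugate

universe u

theorem iso_bot {X : Type u} [Group X] (χ : X → ℂ) : Iso (⊥ : Subgroup X) 1 χ := by
  intro m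
  rw [show (m : X) = 1 from Subgroup.mem_bot.1 m.2]
  simp

theorem R_congr {X : Type u} [Group X] [Finite X] {Y : Type u} [Group Y] (e : X ≃* Y) : R X = R Y := by
  rw [← card_iso_one e.toMonoidHom e.surjective (M := (⊥ : Subgroup X))
    ((MonoidHom.ker_eq_bot_iff _).2 e.injective)]
  exact Nat.card_congr (Equiv.subtypeEquivRight fun χ => ⟨fun h => ⟨h, iso_bot _⟩, And.left⟩)

variable {G : Type u} [Group G] [Finite G]

theorem sylow_map_normalizer {Y : Type u} [Group Y] (f : G →* Y) (hf : Function.Surjective f) (P : Sylow 2 G) :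
    (Subgroup.normalizer ((P : Subgroup G) : Set G)).map f =
      Subgroup.normalizer ((((P : Subgroup G).map f) : Subgroup Y) : Set Y) := by
  haveI := Fact.mk Nat.prime_two
  refine le_antisymm (Subgroup.le_normalizer_map f) fun y hy => ?_
  obtain ⟨x, rfl⟩ := hf y
  obtain ⟨h, hh, hn⟩ := RealDegreeBijection.exists_mem_normalizer_mul P
    (Subgroup.le_comap_map f (P : Subgroup G)) (g := x) (fun z hz => by
      show f (x * z * x⁻¹) ∈ (P : Subgroup G).map f
      rw [map_mul, map_mul, map_inv]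
      exact (Subgroup.mem_normalizer_iff.1 hy (f z)).1 (show f z ∈ (P : Subgroup G).map f from ⟨z, hz, rfl⟩))
  obtain ⟨p, hp, hpe⟩ := hh
  refine ⟨p⁻¹ * (h * x), mul_mem (inv_mem (Subgroup.le_normalizer hp)) hn, ?_⟩
  rw [map_mul, map_mul, map_inv, hpe, inv_mul_cancel_left]

theorem exists_normalizer_hom {Y : Type u} [Group Y] [Finite Y] (f : G →* Y) (hf : Function.Surjective f)
    (P : Sylow 2 G) :
    ∃ (S : Sylow 2 Y) (g : ↥(Subgroup.normalizer ((P : Subgroup G) : Set G)) →*
        ↥(Subgroup.normalizer ((S : Subgroup Y) : Set Y))),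
      (S : Subgroup Y) = (P : Subgroup G).map f ∧ Function.Surjective g ∧
      g.ker = f.ker.subgroupOf (Subgroup.normalizer ((P : Subgroup G) : Set G)) := by
  haveI := Fact.mk Nat.prime_two
  refine ⟨P.mapSurjective hf, (f.comp (Subgroup.subtype _)).codRestrict _ (fun x => ?_), rfl, ?_, ?_⟩
  · show f (x : G) ∈ Subgroup.normalizer (((P : Subgroup G).map f : Subgroup Y) : Set Y)
    rw [← sylow_map_normalizer f hf P]
    exact ⟨x, x.2, rfl⟩
  · rintro ⟨y, hy⟩
    have hy' : y ∈ (Subgroup.normalizer ((P : Subgroup G) : Set G)).map f := by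
      rw [sylow_map_normalizer f hf P]; exact hy
    obtain ⟨x, hx, rfl⟩ := hy'
    exact ⟨⟨x, hx⟩, rfl⟩
  · ext x
    rw [MonoidHom.mem_ker, Subgroup.mem_subgroupOf, MonoidHom.mem_ker, ← Subtype.coe_inj]
    rfl

theorem iso_one_of_odd (M : Subgroup G) [M.Normal] (hM : ∀ a b : M, a * b = b * a)
    (hMo : Odd (Nat.card M)) (P : Sylow 2 G) (χ : IrrCharacter G) (h : RO χ) :
    Iso M 1 (χ : G → ℂ) := by
  classical
  haveI := Fintype.ofFinite G
  haveI := Fintype.ofFinite M
  obtain ⟨θ, hP, hc⟩ := exists_fixed_constituent M P hM χ h.2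
  set O := Set.range fun g : G => Characters.conjFun M g (cf θ) with hO
  have hcard : Nat.card O = (St M θ).index := card_conjugates M _
  have hstar : ∀ o ∈ O, (fun m => conj (o m)) ∈ O := by
    rintro _ ⟨g, rfl⟩
    have h1 : classInner (fun n : M => (χ : G → ℂ) n) (fun m => conj (Characters.conjFun M g (cf θ) m)) ≠ 0 := by
      have h2 := classInner_restrict_conjFun M (irr_isClassFunction χ) g (cf θ)
      obtain ⟨m, hm⟩ := IsCharacter.exists_classInner_nat (IsCharacter.restrict (irr_isCharacter χ) M)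
        (IsCharacter.conjFun M (IsIrrCharacter.isCharacter (isIrr_cf θ)) g)
      have h3 := RealDegreeBijection.classInner_star _ _ hm
      rw [show (fun k : M => conj ((χ : G → ℂ) k)) = fun k : M => (χ : G → ℂ) k from
        funext fun k => Complex.conj_eq_iff_im.2 (h.1 k)] at h3
      rw [h3, ← hm, h2]
      exact hc
    exact exists_conjFun_eq M χ.2 (isIrr_cf θ)
      (IsIrrCharacter.conjugate (IsIrrCharacter.conjFun M (isIrr_cf θ) g)) hc h1
  haveI : Fintype O := Fintype.ofFinite _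
  let σ : O → O := fun o => ⟨_, hstar o.1 o.2⟩
  have hσ : ∀ o, σ (σ o) = o := fun o => Subtype.ext (funext fun m => Complex.conj_conj _)
  let e : Equiv.Perm O := ⟨σ, σ, hσ, hσ⟩
  haveI := Fact.mk Nat.prime_two
  obtain ⟨o, ho⟩ := e.exists_fixed_point_of_prime (p := 2) (n := 1)
    (by rw [← Nat.card_eq_fintype_card, hcard, ← even_iff_two_dvd, Nat.not_even_iff_odd]
        exact odd_index P hP)
    (Equiv.ext fun o => hσ o)
  obtain ⟨g, hg⟩ := o.2
  have hr : ∀ m : M, conj (o.1 m) = o.1 m := fun m => congrFun (congrArg Subtype.val ho) m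
  have h1 : o.1 = cf (1 : M →* ℂˣ) := by
    funext m
    rw [← hg]
    show ((θ _ : ℂˣ) : ℂ) = _
    set z := θ ⟨g * m * g⁻¹, (inferInstance : M.Normal).conj_mem m m.2 g⟩ with hz
    have hk : z ^ Nat.card M = 1 := by rw [hz, ← map_pow, pow_card_eq_one', map_one]
    have hzr : conj (z : ℂ) = z := by have := hr m; rw [← hg] at this; exact this
    have h2 := mul_self_of_real hMo.pos.ne' hk hzr
    obtain ⟨j, hj⟩ := hMo
    rw [hj, pow_succ, pow_mul, pow_two, h2, one_pow, one_mul] at hk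
    rw [hk]
    rfl
  refine iso_of_invariant (fun g => funext fun m => rfl) χ ?_
  rw [← h1, ← hg, classInner_restrict_conjFun M (irr_isClassFunction χ)]
  exact hc

theorem R_of_odd (M : Subgroup G) [M.Normal] (hM : ∀ a b : M, a * b = b * a) (hMo : Odd (Nat.card M))
    (P : Sylow 2 G) {Y : Type u} [Group Y] (f : G →* Y) (hf : Function.Surjective f) (hk : f.ker = M) :
    R G = R Y := by
  rw [← card_iso_one f hf hk]
  exact Nat.card_congr (Equiv.subtypeEquivRight fun χ =>
    ⟨fun h => ⟨h, iso_one_of_odd M hM hMo P χ h⟩, And.left⟩)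

theorem card_decomp {X : Type u} [Group X] [Fintype X] (M : Subgroup X) [Fintype M] {ι : Type*} [Fintype ι]
    (θ : ι → (M →* ℂˣ))
    (hex : ∀ χ : IrrCharacter X, RO χ → ∃ i, classInner (fun n : M => (χ : X → ℂ) n) (cf (θ i)) ≠ 0)
    (huniq : ∀ (χ : IrrCharacter X) i j, classInner (fun n : M => (χ : X → ℂ) n) (cf (θ i)) ≠ 0 →
      classInner (fun n : M => (χ : X → ℂ) n) (cf (θ j)) ≠ 0 → i = j) :
    R X = ∑ i, Nat.card {χ : IrrCharacter X //
      RO χ ∧ classInner (fun n : M => (χ : X → ℂ) n) (cf (θ i)) ≠ 0} := by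
  rw [← Nat.card_sigma]
  refine (Nat.card_eq_of_bijective
    (fun z : Σ i, {χ : IrrCharacter X // RO χ ∧ classInner (fun n : M => (χ : X → ℂ) n) (cf (θ i)) ≠ 0} =>
      (⟨z.2.1, z.2.2.1⟩ : {χ : IrrCharacter X // RO χ})) ⟨?_, ?_⟩).symm
  · rintro ⟨i, χ, h1, h2⟩ ⟨j, χ', h1', h2'⟩ he
    obtain rfl : χ = χ' := congrArg Subtype.val he
    obtain rfl := huniq χ i j h2 h2'
    rfl
  · rintro ⟨χ, h⟩
    obtain ⟨i, hi⟩ := hex χ h
    exact ⟨⟨i, χ, h, hi⟩, rfl⟩

/-- The induction hypothesis. -/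
def Below (n : ℕ) : Prop :=
  ∀ (Q : Type u) [Group Q] [Finite Q] [Group.IsSolvable Q], Nat.card Q < n → ∀ S : Sylow 2 Q,
    R Q = R ↥(Subgroup.normalizer ((S : Subgroup Q) : Set Q))

theorem card_quot_lt (M : Subgroup G) (hne : M ≠ ⊥) (I : Subgroup G) (hMI : M ≤ I) :
    Nat.card (↥I ⧸ M.subgroupOf I) < Nat.card G := by
  have h1 := Subgroup.card_eq_card_quotient_mul_card_subgroup (M.subgroupOf I)
  have h2 : 1 < Nat.card (M.subgroupOf I) := by
    rw [Nat.card_congr (Subgroup.subgroupOfEquivOfLe hMI).toEquiv]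
    exact (Subgroup.one_lt_card_iff_ne_bot M).2 hne
  have h3 : Nat.card I ≤ Nat.card G := Subgroup.card_le_card_group I
  have : Nat.card (↥I ⧸ M.subgroupOf I) < Nat.card I := by
    rw [h1]; exact lt_mul_of_one_lt_right Nat.card_pos h2
  omega

theorem R_step_two [Group.IsSolvable G] (hIH : Below.{u} (Nat.card G)) (M : Subgroup G) [M.Normal]
    (hM : ∀ a b : M, a * b = b * a) (hM2 : ∀ m : M, m * m = 1) (hne : M ≠ ⊥) (P : Sylow 2 G) :
    R G = R ↥(Subgroup.normalizer ((P : Subgroup G) : Set G)) := by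
  classical
  haveI := Fact.mk Nat.prime_two
  haveI := Fintype.ofFinite G
  haveI := Fintype.ofFinite M
  set N := Subgroup.normalizer ((P : Subgroup G) : Set G) with hN
  haveI := Fintype.ofFinite N
  set M' := M.subgroupOf N with hM'
  haveI := Fintype.ofFinite M'
  have hMP : M ≤ (P : Subgroup G) := by
    refine IsPGroup.le_sylow_of_normal (fun m => ⟨1, ?_⟩) P
    rw [pow_one, pow_two]; exact hM2 m
  have hPN : (P : Subgroup G) ≤ N := Subgroup.le_normalizer
  have hMN : M ≤ N := hMP.trans hPN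
  have hθ2 : ∀ (θ : M →* ℂˣ) m, θ m * θ m = 1 := fun θ m => by rw [← map_mul, hM2, map_one]
  let e : M' ≃* M := Subgroup.subgroupOfEquivOfLe hMN
  let T := {θ : M →* ℂˣ // (P : Subgroup G) ≤ St M θ}
  haveI : Finite T := by
    refine Finite.of_injective (fun θ : T => (⟨cf θ.1, isIrr_cf θ.1⟩ : IrrCharacter M)) fun a b h => ?_
    exact Subtype.ext (cf_injective (congrArg Subtype.val h))
  let s : Setoid T := ⟨fun a b => ∃ n ∈ N, Characters.conjFun M n (cf a.1) = cf b.1,
    ⟨fun a => ⟨1, one_mem _, conjFun_one M _⟩,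
     fun {a b} ⟨n, hn, h⟩ => ⟨n⁻¹, inv_mem hn, by rw [← h, conjFun_inv_cancel]⟩,
     fun {a b c} ⟨n, hn, h⟩ ⟨k, hk, h'⟩ => ⟨n * k, mul_mem hn hk, by rw [conjFun_mul, h, h']⟩⟩⟩
  haveI : Fintype (Quotient s) := Fintype.ofFinite _
  let th : Quotient s → (M →* ℂˣ) := fun q => q.out.1
  have hG : R G = ∑ q, Nat.card {χ : IrrCharacter G //
      RO χ ∧ classInner (fun n : M => (χ : G → ℂ) n) (cf (th q)) ≠ 0} := by
    refine card_decomp M th (fun χ h => ?_) (fun χ i j hi hj => ?_)
    · obtain ⟨θ, hP, hc⟩ := exists_fixed_constituent M P hM χ h.2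
      refine ⟨Quotient.mk s ⟨θ, hP⟩, ?_⟩
      obtain ⟨n, -, hn⟩ := Quotient.mk_out (s := s) (⟨θ, hP⟩ : T)
      have hc' : classInner (fun n : M => (χ : G → ℂ) n) (Characters.conjFun M n (cf (th (Quotient.mk s ⟨θ, hP⟩)))) ≠ 0 := by
        rw [hn]; exact hc
      rwa [classInner_restrict_conjFun M (irr_isClassFunction χ)] at hc'
    · obtain ⟨n, hn, he⟩ := fixed_conjugate M P i.out.2 j.out.2 χ hi hj
      rw [← Quotient.out_eq i, ← Quotient.out_eq j]
      exact Quotient.sound ⟨n, hn, he⟩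
  let P' : Sylow 2 N := P.subtype hPN
  have hP' : ∀ θ : M →* ℂˣ, ((P' : Subgroup N) ≤ St M' (θ.comp e.toMonoidHom)) ↔
      (P : Subgroup G) ≤ St M θ := by
    intro θ
    constructor
    · intro h x hx
      rw [mem_St]
      intro m
      exact (mem_St M').1 (h (show (⟨x, hPN hx⟩ : N) ∈ (P' : Subgroup N) from hx)) (e.symm m)
    · intro h x hx
      rw [mem_St]
      intro m
      exact (mem_St M).1 (h (show (x : G) ∈ (P : Subgroup G) from hx)) (e m)
  have hM'c : ∀ a b : M', a * b = b * a := fun a b => e.injective (by rw [map_mul, map_mul, hM])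
  have hNdec : R N = ∑ q, Nat.card {χ : IrrCharacter N //
      RO χ ∧ classInner (fun n : M' => (χ : N → ℂ) n) (cf ((th q).comp e.toMonoidHom)) ≠ 0} := by
    refine card_decomp M' (fun q => (th q).comp e.toMonoidHom) (fun χ h => ?_) (fun χ i j hi hj => ?_)
    · obtain ⟨θ', hP, hc⟩ := exists_fixed_constituent M' P' hM'c χ h.2
      set θ : M →* ℂˣ := θ'.comp e.symm.toMonoidHom with hθ
      have he : θ.comp e.toMonoidHom = θ' := MonoidHom.ext fun m => congrArg θ' (e.symm_apply_apply m)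
      have hPθ : (P : Subgroup G) ≤ St M θ := (hP' θ).1 (by rw [he]; exact hP)
      refine ⟨Quotient.mk s ⟨θ, hPθ⟩, ?_⟩
      obtain ⟨n, hn, hne'⟩ := Quotient.mk_out (s := s) (⟨θ, hPθ⟩ : T)
      have h5 : Characters.conjFun M' (⟨n, hn⟩ : N) (cf ((th (Quotient.mk s ⟨θ, hPθ⟩)).comp e.toMonoidHom)) = cf θ' := by
        rw [← he]
        funext m
        exact congrFun hne' (e m)
      rw [← h5, classInner_restrict_conjFun M' (irr_isClassFunction χ)] at hc
      exact hc
    · obtain ⟨n, -, he⟩ := fixed_conjugate M' P' ((hP' _).2 i.out.2) ((hP' _).2 j.out.2) χ hi hj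
      rw [← Quotient.out_eq i, ← Quotient.out_eq j]
      refine Quotient.sound ⟨n, n.2, funext fun m => ?_⟩
      have := congrFun he (e.symm m)
      simp only [cf, Characters.conjFun, MonoidHom.coe_comp, Function.comp_apply, MulEquiv.coe_toMonoidHom,
        MulEquiv.apply_symm_apply] at this
      exact this
  rw [hG, hNdec]
  refine Finset.sum_congr rfl fun q _ => ?_
  set θ := th q with hθdef
  have hPI : (P : Subgroup G) ≤ St M θ := q.out.2
  set θ' := θ.comp e.toMonoidHom
  haveI : M'.Normal := inferInstance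
  rw [card_over M θ (hθ2 θ) (odd_index P hPI),
    card_over M' θ' (fun m => hθ2 θ _) (odd_index P' ((hP' θ).2 hPI))]
  let PI : Sylow 2 (St M θ) := P.subtype hPI
  set NI := Subgroup.normalizer ((PI : Subgroup (St M θ)) : Set (St M θ))
  obtain ⟨S, gI, hS, hgI, hgk⟩ := exists_normalizer_hom
    (QuotientGroup.mk' (M.subgroupOf (St M θ))) (QuotientGroup.mk'_surjective _) PI
  have hlt := card_quot_lt M hne (St M θ) (le_St M θ)
  have hih := hIH _ hlt S
  have hmem : ∀ x : N, x ∈ St M' θ' ↔ (x : G) ∈ St M θ := fun x => by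
    rw [mem_St, mem_St]
    exact ⟨fun h m => h (e.symm m), fun h m => h (e m)⟩
  have hNI : ∀ x : St M θ, x ∈ NI ↔ (x : G) ∈ N := by
    intro x
    rw [Subgroup.mem_normalizer_iff, hN, Subgroup.mem_normalizer_iff]
    refine ⟨fun h y => ⟨fun hy => (h ⟨y, hPI hy⟩).1 hy, fun hy => ?_⟩, fun h y => h y⟩
    have h2 : y ∈ St M θ := by
      have := (St M θ).mul_mem ((St M θ).mul_mem (inv_mem x.2) (hPI hy)) x.2
      simpa [mul_assoc] using this
    exact (h ⟨y, h2⟩).2 hy
  let k : St M' θ' ≃* NI :=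
    { toFun := fun x => ⟨⟨((x : N) : G), (hmem _).1 x.2⟩, (hNI _).2 (x : N).2⟩
      invFun := fun y => ⟨⟨((y : St M θ) : G), (hNI _).1 y.2⟩, (hmem _).2 (y : St M θ).2⟩
      left_inv := fun _ => rfl
      right_inv := fun _ => rfl
      map_mul' := fun _ _ => rfl }
  have hker : (gI.comp k.toMonoidHom).ker = M'.subgroupOf (St M' θ') := by
    rw [← MonoidHom.comap_ker, hgk, QuotientGroup.ker_mk']
    rfl
  have hA := ro_iso_zero_or (QuotientGroup.mk' (M.subgroupOf (St M θ))) (QuotientGroup.mk'_surjective _)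
    (QuotientGroup.ker_mk' _) (θ := stChar M θ) (fun m => hθ2 θ _)
  have hB := ro_iso_zero_or (gI.comp k.toMonoidHom) (hgI.comp k.surjective) hker
    (θ := stChar M' θ') (fun m => hθ2 θ _)
  rcases hA with ⟨hA1, hA2⟩ | ⟨⟨d, hd, hdM⟩, hA2⟩ <;> rcases hB with ⟨hB1, hB2⟩ | ⟨⟨d', hd', hdM'⟩, hB2⟩
  · rw [hA2, hB2]
  · exfalso
    let μ : NI →* ℂˣ := d'.comp k.symm.toMonoidHom
    haveI := Fintype.ofFinite (St M θ)
    haveI := Fintype.ofFinite (M.subgroupOf (St M θ))
    haveI := Fintype.ofFinite NI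
    have hφ : IsCharacter (St M θ) (indFun NI fun y => (μ y : ℂ)) :=
      IsCharacter.indFun NI (IsIrrCharacter.isCharacter (isIrrCharacter_unitsHom μ))
    have hφ1 : indFun NI (fun y => (μ y : ℂ)) 1 = (NI.index : ℂ) := by
      rw [indFun_one, map_one, Units.val_one, mul_one]
    have hreal : ∀ g, conj (indFun NI (fun y => (μ y : ℂ)) g) = indFun NI (fun y => (μ y : ℂ)) g := fun g => by
      rw [conj_indFun]
      congr 1
      funext y
      exact conj_eq_of_mul_self (hd' _)
    have hiso : Iso (M.subgroupOf (St M θ)) (stChar M θ) (indFun NI fun y => (μ y : ℂ)) := by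
      intro m
      have hx : ∀ x : St M θ, extendByZero NI (fun y => (μ y : ℂ)) (x⁻¹ * (m : St M θ) * x) =
          (stChar M θ m : ℂ) := by
        intro x
        have hm' : x⁻¹ * (m : St M θ) * x ∈ M.subgroupOf (St M θ) := by
          simpa using (inferInstance : (M.subgroupOf (St M θ)).Normal).conj_mem _ m.2 x⁻¹
        have hmN : x⁻¹ * (m : St M θ) * x ∈ NI := (hNI _).2 (hMN hm')
        rw [extendByZero_of_mem NI _ hmN]
        refine congrArg Units.val ?_
        show d' (k.symm ⟨_, hmN⟩) = _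
        refine (hdM' ⟨_, (show k.symm ⟨_, hmN⟩ ∈ M'.subgroupOf (St M' θ') from hm')⟩).trans ?_
        have h6 := congrFun (stChar_inv M θ x⁻¹) m
        simp only [Characters.conjFun, cf, inv_inv] at h6
        exact Units.ext h6
      rw [indFun_apply, Finset.sum_congr rfl fun x _ => hx x, hφ1, Finset.sum_const, Finset.card_univ,
        nsmul_eq_mul, ← Nat.card_eq_fintype_card, ← mul_assoc, ← NI.index_mul_card, Nat.cast_mul]
      have hc : (Nat.card NI : ℂ) ≠ 0 := by exact_mod_cast Nat.card_pos.ne'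
      field_simp
    obtain ⟨χ, hro, hc⟩ := exists_ro_constituent hφ hφ1 (odd_index PI Subgroup.le_normalizer) hreal
    obtain ⟨d, h1, h2⟩ := exists_det (θ := stChar M θ) (fun m => hθ2 θ _) χ hro.2 (iso_of_constituent hφ hiso χ hc)
    exact hA1 d (h2 hro.1) h1
  · exfalso
    refine hB1 ((d.comp NI.subtype).comp k.toMonoidHom) (fun x => hd _) fun m => ?_
    exact hdM ⟨⟨(((m : St M' θ') : N) : G), le_St M θ m.2⟩, m.2⟩
  · rw [hA2, hB2, hih]

theorem R_step_odd [Group.IsSolvable G] (hIH : Below.{u} (Nat.card G)) (M : Subgroup G) [M.Normal]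
    (hM : ∀ a b : M, a * b = b * a) (hMo : Odd (Nat.card M)) (hne : M ≠ ⊥) (P : Sylow 2 G) :
    R G = R ↥(Subgroup.normalizer ((P : Subgroup G) : Set G)) := by
  haveI := Fact.mk Nat.prime_two
  set N := Subgroup.normalizer ((P : Subgroup G) : Set G) with hN
  obtain ⟨S, g, hS, hg, hgk⟩ := exists_normalizer_hom (QuotientGroup.mk' M) (QuotientGroup.mk'_surjective _) P
  rw [QuotientGroup.ker_mk'] at hgk
  have hMN : Odd (Nat.card (M.subgroupOf N)) :=
    hMo.of_dvd_nat (Subgroup.card_dvd_of_injective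
      (({ toFun := fun x => ⟨((x : N) : G), x.2⟩, map_one' := rfl, map_mul' := fun _ _ => rfl } :
        M.subgroupOf N →* M)) (fun a b h => Subtype.ext (Subtype.ext (congrArg (fun z : M => (z : G)) h))))
  rw [R_of_odd M hM hMo P (QuotientGroup.mk' M) (QuotientGroup.mk'_surjective _) (QuotientGroup.ker_mk' M),
    R_of_odd (M.subgroupOf N) (fun a b => Subtype.ext (Subtype.ext (congrArg (fun z : M => (z : G))
      (hM ⟨_, a.2⟩ ⟨_, b.2⟩)))) hMN (P.subtype Subgroup.le_normalizer) g hg hgk]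
  refine hIH _ ?_ S
  rw [Subgroup.card_eq_card_quotient_mul_card_subgroup M]
  exact lt_mul_of_one_lt_right Nat.card_pos ((Subgroup.one_lt_card_iff_ne_bot M).2 hne)

/-- A nontrivial solvable group has a useful abelian normal subgroup. -/
theorem exists_good_normal [Group.IsSolvable G] [Nontrivial G] :
    ∃ M : Subgroup G, M.Normal ∧ M ≠ ⊥ ∧ (∀ a b : M, a * b = b * a) ∧
      ((∀ m : M, m * m = 1) ∨ Odd (Nat.card M)) := by
  classical
  haveI := Fact.mk Nat.prime_two
  obtain ⟨n, hn⟩ := (Group.isSolvable_def G).1 inferInstance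
  have hex : ∃ n, derivedSeries G n = ⊥ := ⟨n, hn⟩
  set m := Nat.find hex with hm
  have hm0 : m ≠ 0 := fun h0 => by
    have := Nat.find_spec hex
    rw [← hm, h0, derivedSeries_zero] at this
    exact bot_ne_top this.symm
  obtain ⟨j, hj⟩ := Nat.exists_eq_succ_of_ne_zero hm0
  set A := derivedSeries G j with hA
  have hAne : A ≠ ⊥ := Nat.find_min hex (by omega)
  have hAc : ∀ a b : A, a * b = b * a := fun a b => by
    have h1 : derivedSeries G (j + 1) = ⊥ := by
      rw [← Nat.succ_eq_add_one, ← hj]; exact Nat.find_spec hex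
    rw [derivedSeries_succ, Subgroup.commutator_eq_bot_iff_le_centralizer] at h1
    exact Subtype.ext ((Subgroup.mem_centralizer_iff.1 (h1 b.2)) a a.2)
  haveI hAn : A.Normal := derivedSeries_normal G j
  by_cases h2 : Odd (Nat.card A)
  · exact ⟨A, hAn, hAne, hAc, Or.inr h2⟩
  · let B : Subgroup G :=
      { carrier := {x | x ∈ A ∧ x * x = 1}
        one_mem' := ⟨one_mem _, one_mul 1⟩
        mul_mem' := fun {a b} ha hb => ⟨mul_mem ha.1 hb.1, by
          have h3 : a * b = b * a := congrArg Subtype.val (hAc ⟨a, ha.1⟩ ⟨b, hb.1⟩)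
          calc a * b * (a * b) = a * (b * a) * b := by group
            _ = (a * a) * (b * b) := by rw [← h3]; group
            _ = 1 := by rw [ha.2, hb.2, one_mul]⟩
        inv_mem' := fun {a} ha => ⟨inv_mem ha.1, by rw [← mul_inv_rev, ha.2, inv_one]⟩ }
    refine ⟨B, ⟨fun x hx g => ⟨hAn.conj_mem x hx.1 g, ?_⟩⟩, ?_,
      fun a b => Subtype.ext (congrArg Subtype.val (hAc ⟨a, a.2.1⟩ ⟨b, b.2.1⟩) :),
      Or.inl fun x => Subtype.ext x.2.2⟩
    · rw [show g * x * g⁻¹ * (g * x * g⁻¹) = g * (x * x) * g⁻¹ by group, hx.2]; group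
    · intro hB
      obtain ⟨y, hy⟩ := exists_prime_orderOf_dvd_card' 2
        (even_iff_two_dvd.1 (Nat.not_odd_iff_even.1 h2) : 2 ∣ Nat.card A)
      have h1 : (y : G) ∈ B := ⟨y.2, by
        have := pow_orderOf_eq_one y
        rw [hy, pow_two] at this
        exact congrArg Subtype.val this⟩
      rw [hB, Subgroup.mem_bot, OneMemClass.coe_eq_one] at h1
      rw [h1, orderOf_one] at hy
      omega

theorem R_eq_aux : ∀ (n : ℕ), Below.{u} n := by
  intro n
  induction n with
  | zero => intro Q _ _ _ h; omega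
  | succ n ih =>
    intro Q _ _ _ hQ S
    by_cases h : Nat.card Q < n
    · exact ih Q h S
    have hIH : Below.{u} (Nat.card Q) := fun Q' _ _ _ h' S' => ih Q' (by omega) S'
    rcases subsingleton_or_nontrivial Q with hs | hn
    · refine (R_congr (Subgroup.topEquiv.symm.trans (MulEquiv.subgroupCongr ?_)))
      exact Subsingleton.elim _ _
    obtain ⟨M, hMn, hne, hc, h2 | ho⟩ := exists_good_normal (G := Q)
    · exact R_step_two hIH M hc h2 hne S
    · exact R_step_odd hIH M hc ho hne S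

/-- A solvable group and the normaliser of a Sylow `2`-subgroup have equally many real irreducible
characters of odd degree. -/
theorem R_eq [Group.IsSolvable G] (P : Sylow 2 G) :
    R G = R ↥(Subgroup.normalizer ((P : Subgroup G) : Set G)) :=
  R_eq_aux (Nat.card G + 1) G (Nat.lt_succ_self _) P

end Cfsg.Agent.Lib.OddRealCount
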