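import Cfsg.Agent.Lib.OddRealCount.Basic
import Cfsg.Agent.Lib.CharMisc.RealDegreeBijection

/-!
# Real characters of odd degree over a linear character of a normal subgroup
-/

set_option autoImplicit false
set_option linter.unusedSectionVars false
set_option linter.style.haveILetI false

namespace Cfsg.Agent.Lib.OddRealCount

open Cfsg Cfsg.Agent.Lib.Characters Cfsg.Agent.Lib.CharMisc
open scoped ComplexConjugate

universe u

variable {G : Type u} [Group G] [Fintype G] (M : Subgroup G) [M.Normal] [Fintype M]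

/-- The stabiliser of a linear character. -/
abbrev St (θ : M →* ℂˣ) : Subgroup G := inertia M (cf θ)

theorem mem_St {θ : M →* ℂˣ} {g : G} :
    g ∈ St M θ ↔ ∀ m : M, θ ⟨g * m * g⁻¹, (inferInstance : M.Normal).conj_mem m m.2 g⟩ = θ m := by
  rw [mem_inertia_iff, funext_iff]
  exact forall_congr' fun m => Units.val_inj

theorem le_St (θ : M →* ℂˣ) : M ≤ St M θ :=
  le_inertia M (IsCharacter.isClassFunction (IsIrrCharacter.isCharacter (isIrr_cf θ)))

/-- The linear character seen in its stabiliser. -/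
def stChar (θ : M →* ℂˣ) : M.subgroupOf (St M θ) →* ℂˣ :=
  θ.comp (Subgroup.subgroupOfEquivOfLe (le_St M θ)).toMonoidHom

theorem stChar_inv (θ : M →* ℂˣ) (t : St M θ) :
    Characters.conjFun (M.subgroupOf (St M θ)) t (cf (stChar M θ)) = cf (stChar M θ) := by
  funext m
  exact congrArg Units.val ((mem_St M).1 t.2 (Subgroup.subgroupOfEquivOfLe (le_St M θ) m))

theorem classInner_stChar (θ : M →* ℂˣ) [Fintype (M.subgroupOf (St M θ))] (ψ : St M θ → ℂ) :
    classInner (fun m : M.subgroupOf (St M θ) => ψ m) (cf (stChar M θ)) =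
      classInner (fun n : M => ψ ⟨n, le_St M θ n.2⟩) (cf θ) := by
  rw [← classInner_comp_equiv (Subgroup.subgroupOfEquivOfLe (le_St M θ))]
  rfl

theorem exists_ind (θ : M →* ℂˣ) [Fintype (St M θ)] (ψ : IrrCharacter (St M θ))
    (h : Iso (M.subgroupOf (St M θ)) (stChar M θ) ψ.1) :
    ∃ χ : IrrCharacter G, (χ : G → ℂ) = indFun (St M θ) (ψ : St M θ → ℂ) ∧
      classInner (fun n : M => (χ : G → ℂ) n) (cf θ) ≠ 0 ∧
      ∀ ψ' : IrrCharacter (St M θ), Iso (M.subgroupOf (St M θ)) (stChar M θ) ψ'.1 →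
        indFun (St M θ) (ψ' : St M θ → ℂ) = indFun (St M θ) (ψ : St M θ → ℂ) → ψ' = ψ := by
  haveI := Fintype.ofFinite (M.subgroupOf (St M θ))
  have hI := IsCharacter.indFun (St M θ) (irr_isCharacter ψ)
  have hne : indFun (St M θ) (ψ : (St M θ) → ℂ) ≠ 0 := fun h0 => by
    have := congrFun h0 1
    rw [indFun_one] at this
    exact mul_ne_zero (Nat.cast_ne_zero.2 Subgroup.index_ne_zero_of_finite)
      (IsIrrCharacter.apply_one_ne_zero ψ.2) this
  obtain ⟨χ, hχ⟩ := IsCharacter.exists_constituent hI hne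
  have hover : ∀ ψ : IrrCharacter (St M θ), Iso (M.subgroupOf (St M θ)) (stChar M θ) ψ.1 →
      classInner (fun n : M => (ψ : (St M θ) → ℂ) ⟨n, le_St M θ n.2⟩) (cf θ) ≠ 0 := fun ψ h => by
    rw [← classInner_stChar]; exact classInner_ne_of_iso ψ h
  have hres : ∀ ψ : IrrCharacter (St M θ), classInner (indFun (St M θ) (ψ : (St M θ) → ℂ)) (χ : G → ℂ) ≠ 0 →
      classInner (fun t : (St M θ) => (χ : G → ℂ) t) (ψ : (St M θ) → ℂ) ≠ 0 := fun ψ h => by
    rw [classInner_indFun (St M θ) _ (irr_isClassFunction χ), IsCharacter.classInner_comm (irr_isCharacter ψ)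
      (IsCharacter.restrict (irr_isCharacter χ) (St M θ))] at h
    exact h
  obtain ⟨he, ho, -, hu⟩ := Glauberman.clifford_unique M (St M θ) ⟨cf θ, isIrr_cf θ⟩ rfl (le_St M θ) χ ψ
    (hover ψ h) (hres ψ hχ)
  refine ⟨χ, he.symm, ho, fun ψ' h' e => ?_⟩
  by_contra hne'
  exact hres ψ' (by rwa [e]) (hu ψ' (hover ψ' h') hne')

theorem exists_res (θ : M →* ℂˣ) [Fintype (St M θ)] (χ : IrrCharacter G)
    (h : classInner (fun n : M => (χ : G → ℂ) n) (cf θ) ≠ 0) :
    ∃ ψ : IrrCharacter (St M θ), indFun (St M θ) (ψ : St M θ → ℂ) = (χ : G → ℂ) ∧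
      Iso (M.subgroupOf (St M θ)) (stChar M θ) ψ.1 := by
  haveI := Fintype.ofFinite (M.subgroupOf (St M θ))
  obtain ⟨ψ, hψ, hind, hm⟩ := exists_clifford_correspondent M χ.2 (isIrr_cf θ) h (St M θ) rfl (le_St M θ)
  refine ⟨⟨ψ, hψ⟩, hind, iso_of_invariant (stChar_inv M θ) ⟨ψ, hψ⟩ ?_⟩
  rw [classInner_stChar, hm]
  exact h

theorem conj_indFun (I : Subgroup G) (ψ : I → ℂ) (g : G) :
    conj (indFun I ψ g) = indFun I (fun i => conj (ψ i)) g := by
  rw [indFun_apply, indFun_apply, map_mul, map_inv₀, map_natCast, map_sum]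
  congr 1
  refine Finset.sum_congr rfl fun x _ => ?_
  by_cases hx : x⁻¹ * g * x ∈ I
  · rw [extendByZero_of_mem I _ hx, extendByZero_of_mem I _ hx]
  · rw [extendByZero_of_not_mem I _ hx, extendByZero_of_not_mem I _ hx, map_zero]

theorem charDegree_of_ind {I : Subgroup G} {χ : IrrCharacter G} {ψ : IrrCharacter I}
    (h : (χ : G → ℂ) = indFun I (ψ : I → ℂ)) :
    charDegree (χ : G → ℂ) = I.index * charDegree (ψ : I → ℂ) := by
  refine charDegree_of_apply_one ?_
  rw [h, indFun_one, charDegree_coe, Nat.cast_mul]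

theorem odd_of_ind {θ : M →* ℂˣ} [Fintype (St M θ)] {χ : IrrCharacter G} {ψ : IrrCharacter (St M θ)}
    (h : (χ : G → ℂ) = indFun (St M θ) (ψ : St M θ → ℂ)) (hχ : Odd (charDegree (χ : G → ℂ))) :
    Odd (charDegree (ψ : St M θ → ℂ)) := by
  rw [charDegree_of_ind h] at hχ
  exact (Nat.odd_mul.1 hχ).2

theorem real_iff_of_ind {θ : M →* ℂˣ} (hθ : ∀ m, θ m * θ m = 1) [Fintype (St M θ)]
    {χ : IrrCharacter G} {ψ : IrrCharacter (St M θ)}
    (h : (χ : G → ℂ) = indFun (St M θ) (ψ : St M θ → ℂ))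
    (hψ : Iso (M.subgroupOf (St M θ)) (stChar M θ) ψ.1) :
    (∀ g, ((χ : G → ℂ) g).im = 0) ↔ ∀ t, ((ψ : St M θ → ℂ) t).im = 0 := by
  constructor
  · intro hr
    rw [← Glauberman.starIrr_eq_self_iff]
    have hiso : Iso (M.subgroupOf (St M θ)) (stChar M θ) (Glauberman.starIrr ψ).1 := fun m => by
      rw [Glauberman.starIrr_apply, Glauberman.starIrr_apply, hψ m, map_mul,
        conj_eq_of_mul_self (z := stChar M θ m) (hθ _)]
    obtain ⟨_, -, -, hu⟩ := exists_ind M θ ψ hψ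
    refine hu _ hiso ?_
    funext g
    rw [show ((Glauberman.starIrr ψ : IrrCharacter (St M θ)) : St M θ → ℂ) = fun i => conj ((ψ : St M θ → ℂ) i) from rfl,
      ← conj_indFun, ← h]
    exact Complex.conj_eq_iff_im.2 (hr g)
  · intro hr g
    rw [← Complex.conj_eq_iff_im, h, conj_indFun]
    congr 1
    funext i
    exact Complex.conj_eq_iff_im.2 (hr i)

/-- Clifford correspondence for real characters of odd degree. -/
theorem card_over (θ : M →* ℂˣ) (hθ : ∀ m, θ m * θ m = 1) (hodd : Odd (St M θ).index) :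
    Nat.card {χ : IrrCharacter G // RO χ ∧ classInner (fun n : M => (χ : G → ℂ) n) (cf θ) ≠ 0} =
      Nat.card {ψ : IrrCharacter (St M θ) // RO ψ ∧ Iso (M.subgroupOf (St M θ)) (stChar M θ) ψ.1} := by
  haveI := Fintype.ofFinite (St M θ)
  choose F hF hFo hFu using fun ψ : {ψ : IrrCharacter (St M θ) //
      RO ψ ∧ Iso (M.subgroupOf (St M θ)) (stChar M θ) ψ.1} => exists_ind M θ ψ.1 ψ.2.2
  have hFro : ∀ ψ, RO (F ψ) := fun ψ =>
    ⟨(real_iff_of_ind M hθ (hF ψ) ψ.2.2).2 ψ.2.1.1, by rw [charDegree_of_ind (hF ψ)]; exact hodd.mul ψ.2.1.2⟩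
  refine (Nat.card_eq_of_bijective (fun ψ => (⟨F ψ, hFro ψ, hFo ψ⟩ :
    {χ : IrrCharacter G // RO χ ∧ classInner (fun n : M => (χ : G → ℂ) n) (cf θ) ≠ 0})) ⟨?_, ?_⟩).symm
  · intro a b e
    have e' : F a = F b := congrArg Subtype.val e
    exact Subtype.ext (hFu b a.1 a.2.2 (by rw [← hF a, ← hF b, e']))
  · rintro ⟨χ, hro, ho⟩
    obtain ⟨ψ, hind, hiso⟩ := exists_res M θ χ ho
    refine ⟨⟨ψ, ⟨(real_iff_of_ind M hθ hind.symm hiso).1 hro.1, odd_of_ind M hind.symm hro.2⟩, hiso⟩,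
      Subtype.ext (Subtype.ext ?_)⟩
    show (F _ : G → ℂ) = (χ : G → ℂ)
    rw [hF, hind]

variable (P : Sylow 2 G)

theorem odd_index {I : Subgroup G} (h : (P : Subgroup G) ≤ I) : Odd I.index := by
  haveI := Fact.mk Nat.prime_two
  rw [← Nat.not_even_iff_odd, even_iff_two_dvd]
  exact fun h2 => P.not_dvd_index (h2.trans (Subgroup.index_dvd_of_le h))

/-- Some constituent of a character of odd degree on an abelian normal subgroup is fixed by `P`. -/
theorem exists_fixed_constituent (hM : ∀ a b : M, a * b = b * a) (χ : IrrCharacter G)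
    (hodd : Odd (charDegree (χ : G → ℂ))) :
    ∃ θ : M →* ℂˣ, (P : Subgroup G) ≤ St M θ ∧
      classInner (fun n : M => (χ : G → ℂ) n) (cf θ) ≠ 0 := by
  haveI := Fact.mk Nat.prime_two
  have hχM := IsCharacter.restrict (irr_isCharacter χ) M
  obtain ⟨η, hη⟩ := IsCharacter.exists_constituent hχM fun h => IsIrrCharacter.apply_one_ne_zero χ.2
    (congrFun h 1)
  obtain ⟨θ, hθ⟩ := exists_hom_of_comm hM η
  rw [hθ] at hη
  obtain ⟨e, he⟩ := IsCharacter.exists_classInner_nat hχM (IsIrrCharacter.isCharacter (isIrr_cf θ))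
  have h1 := degree_eq M χ.2 (isIrr_cf θ) hη
  rw [he, show cf θ 1 = 1 by simp [cf], mul_one, ← Nat.cast_mul, charDegree_coe] at h1
  have h2 : Odd (St M θ).index := (Nat.odd_mul.1 ((Nat.cast_injective h1) ▸ hodd)).2
  have h3 : ¬ 2 ∣ Nat.card (G ⧸ St M θ) := by
    rw [← Subgroup.index_eq_card, ← even_iff_two_dvd, Nat.not_even_iff_odd]; exact h2
  obtain ⟨c, hc⟩ := P.isPGroup'.nonempty_fixed_point_of_prime_not_dvd_card (G ⧸ St M θ) h3
  obtain ⟨c, rfl⟩ := QuotientGroup.mk_surjective c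
  obtain ⟨θ', hθ'⟩ := exists_hom_of_comm hM ⟨_, IsIrrCharacter.conjFun M (isIrr_cf θ) c⁻¹⟩
  refine ⟨θ', fun x hx => ?_, ?_⟩
  · rw [mem_inertia_iff, ← hθ']
    show Characters.conjFun M x (Characters.conjFun M c⁻¹ (cf θ)) = Characters.conjFun M c⁻¹ (cf θ)
    rw [← conjFun_mul, conjFun_eq_iff]
    have h : (QuotientGroup.mk (x⁻¹ * c) : G ⧸ St M θ) = QuotientGroup.mk c := hc ⟨x⁻¹, inv_mem hx⟩
    simpa [mul_assoc] using QuotientGroup.eq.mp h.symm |> Subgroup.inv_mem _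
  · rw [← hθ']
    show classInner _ (Characters.conjFun M c⁻¹ (cf θ)) ≠ 0
    rw [classInner_restrict_conjFun M (irr_isClassFunction χ)]
    exact hη

/-- Two constituents fixed by `P` are conjugate under its normaliser. -/
theorem fixed_conjugate {θ θ' : M →* ℂˣ} (h : (P : Subgroup G) ≤ St M θ)
    (h' : (P : Subgroup G) ≤ St M θ') (χ : IrrCharacter G)
    (hc : classInner (fun n : M => (χ : G → ℂ) n) (cf θ) ≠ 0)
    (hc' : classInner (fun n : M => (χ : G → ℂ) n) (cf θ') ≠ 0) :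
    ∃ n ∈ Subgroup.normalizer ((P : Subgroup G) : Set G), Characters.conjFun M n (cf θ) = cf θ' := by
  haveI := Fact.mk Nat.prime_two
  obtain ⟨g, hg⟩ := exists_conjFun_eq M χ.2 (isIrr_cf θ) (isIrr_cf θ') hc hc'
  obtain ⟨n, hn, hnN⟩ := RealDegreeBijection.exists_mem_normalizer_mul P h (g := g) (fun x hx => by
    rw [mem_inertia_iff, conjFun_mul, conjFun_mul, hg, (mem_inertia_iff M).1 (h' hx), ← hg,
      conjFun_inv_cancel])
  refine ⟨_, hnN, ?_⟩
  rw [conjFun_mul, (mem_inertia_iff M).1 hn, hg]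

end Cfsg.Agent.Lib.OddRealCount
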