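import Cfsg.Agent.Lib.OddRealCount.Count
import Mathlib.GroupTheory.FiniteAbelian.Duality
import Mathlib.Analysis.Complex.Polynomial.Basic
import Mathlib.RingTheory.RootsOfUnity.AlgebraicallyClosed
import Mathlib.GroupTheory.NoncommCoprod

/-!
# When all characters of odd degree of a solvable group are real
-/

set_option autoImplicit false
set_option linter.unusedSectionVars false
set_option linter.style.haveILetI false

namespace Cfsg.Agent.Lib.OddRealCount

open Cfsg Cfsg.Agent.Lib.Characters Cfsg.Agent.Lib.CharMisc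
open scoped ComplexConjugate

universe u

/-- All irreducible characters of odd degree are real. -/
def AllReal (X : Type u) [Group X] : Prop :=
  ∀ χ : IrrCharacter X, Odd (charDegree (χ : X → ℂ)) → ∀ g : X, ((χ : X → ℂ) g).im = 0

/-- All linear characters take values `±1`. -/
def Sq1 {X : Type u} [Group X] (P : Subgroup X) : Prop :=
  ∀ (μ : P →* ℂˣ) (x : P), μ x * μ x = 1

/-- The Sylow subgroup is self-normalizing with elementary abelianization. -/
def Good {X : Type u} [Group X] (P : Sylow 2 X) : Prop :=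
  Subgroup.normalizer ((P : Subgroup X) : Set X) ≤ (P : Subgroup X) ∧ Sq1 (P : Subgroup X)

variable {G : Type u} [Group G] [Finite G]

theorem allReal_of_surj {Y : Type u} [Group Y] (f : G →* Y) (hf : Function.Surjective f) (h : AllReal G) :
    AllReal Y := by
  intro ψ ho y
  obtain ⟨x, rfl⟩ := hf y
  refine h ⟨_, IsIrrCharacter.comp_surjective ψ.2 f hf⟩ ?_ x
  show Odd (charDegree ((ψ : Y → ℂ) ∘ f))
  rw [charDegree_comp]
  exact ho

theorem real_of_iso_one {Y : Type u} [Group Y] (f : G →* Y) (hf : Function.Surjective f) {M : Subgroup G}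
    (hker : f.ker = M) (hY : AllReal Y) (χ : IrrCharacter G) (ho : Odd (charDegree (χ : G → ℂ)))
    (hiso : Iso M 1 (χ : G → ℂ)) (g : G) : ((χ : G → ℂ) g).im = 0 := by
  obtain ⟨ψ, hψ⟩ := exists_eq_comp f hf hker χ hiso
  rw [hψ]
  refine hY ψ ?_ (f g)
  rw [← charDegree_comp f, ← hψ]
  exact ho

theorem good_map (P : Sylow 2 G) (h : Good P) {Y : Type u} [Group Y] (f : G →* Y)
    (hf : Function.Surjective f) (S : Sylow 2 Y) (hS : (S : Subgroup Y) = (P : Subgroup G).map f) :
    Good S := by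
  refine ⟨?_, ?_⟩
  · rw [hS, ← sylow_map_normalizer f hf P]
    exact Subgroup.map_mono h.1
  · unfold Sq1
    rw [hS]
    intro μ y
    obtain ⟨x, rfl⟩ := f.subgroupMap_surjective (P : Subgroup G) y
    exact h.2 (μ.comp (f.subgroupMap (P : Subgroup G))) x

theorem good_subtype (P : Sylow 2 G) (h : Good P) {I : Subgroup G} (hPI : (P : Subgroup G) ≤ I) :
    Good (P.subtype hPI) := by
  refine ⟨fun x hx => ?_, fun μ x => ?_⟩
  · refine h.1 (Subgroup.mem_normalizer_iff.2 fun y => ⟨fun hy => ?_, fun hy => ?_⟩)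
    · exact (Subgroup.mem_normalizer_iff.1 hx ⟨y, hPI hy⟩).1 hy
    · have h2 : y ∈ I := by
        have := I.mul_mem (I.mul_mem (inv_mem x.2) (hPI hy)) x.2
        simpa [mul_assoc] using this
      exact (Subgroup.mem_normalizer_iff.1 hx ⟨y, h2⟩).2 hy
  · have e := h.2 (μ.comp (Subgroup.subgroupOfEquivOfLe hPI).symm.toMonoidHom)
      (Subgroup.subgroupOfEquivOfLe hPI x)
    have e' : (Subgroup.subgroupOfEquivOfLe hPI).symm (Subgroup.subgroupOfEquivOfLe hPI x) = x :=
      (Subgroup.subgroupOfEquivOfLe hPI).symm_apply_apply x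
    change μ ((Subgroup.subgroupOfEquivOfLe hPI).symm (Subgroup.subgroupOfEquivOfLe hPI x)) *
      μ ((Subgroup.subgroupOfEquivOfLe hPI).symm (Subgroup.subgroupOfEquivOfLe hPI x)) = 1 at e
    rwa [e'] at e

theorem eq_one_of_odd {z : ℂˣ} {k m : ℕ} (h1 : z ^ 2 ^ k = 1) (hm : Odd m) (h2 : z ^ m = 1) : z = 1 := by
  have h := pow_gcd_eq_one.2 ⟨h1, h2⟩
  rwa [Nat.Coprime.gcd_eq_one (Nat.Coprime.pow_left k (Nat.coprime_two_left.2 hm)), pow_one] at h

theorem inf_eq_bot_of_odd (P : Sylow 2 G) {M : Subgroup G} (hMo : Odd (Nat.card M)) {x : G}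
    (hP : x ∈ (P : Subgroup G)) (hM : x ∈ M) : x = 1 := by
  obtain ⟨k, hk⟩ := P.isPGroup' ⟨x, hP⟩
  have h1 : x ^ 2 ^ k = 1 := congrArg Subtype.val hk
  have h2 : x ^ Nat.card M = 1 := congrArg Subtype.val (pow_card_eq_one' (x := (⟨x, hM⟩ : M)))
  have h := pow_gcd_eq_one.2 ⟨h1, h2⟩
  rwa [Nat.Coprime.gcd_eq_one (Nat.Coprime.pow_left k (Nat.coprime_two_left.2 hMo)), pow_one] at h

theorem fixed_eq_one (M : Subgroup G) [M.Normal] [Fintype M] (hM : ∀ a b : M, a * b = b * a)
    (hMo : Odd (Nat.card M)) (P : Sylow 2 G)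
    (hN : Subgroup.normalizer ((P : Subgroup G) : Set G) ≤ (P : Subgroup G))
    (θ : M →* ℂˣ) (hθ : (P : Subgroup G) ≤ St M θ) : θ = 1 := by
  haveI := Fintype.ofFinite G
  haveI := Fintype.ofFinite (P : Subgroup G)
  letI : CommGroup M := { (inferInstance : Group M) with mul_comm := hM }
  refine MonoidHom.ext fun m => ?_
  let c : ↥(P : Subgroup G) → M → M := fun p x =>
    ⟨(p : G) * x * (p : G)⁻¹, (inferInstance : M.Normal).conj_mem x x.2 p⟩
  set ν : M := ∏ p : (P : Subgroup G), c p m with hν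
  have hfix : ∀ q : (P : Subgroup G), c q ν = ν := by
    intro q
    let h : M →* M := MonoidHom.mk' (c q) fun a b => Subtype.ext (by simp [c, mul_assoc])
    show h ν = ν
    rw [hν, map_prod]
    refine Fintype.prod_equiv (Equiv.mulLeft q) _ _ fun p => Subtype.ext ?_
    simp [h, c, mul_assoc]
  have hνC : (ν : G) ∈ Subgroup.centralizer ((P : Subgroup G) : Set G) := by
    intro q hq
    have h := congrArg Subtype.val (hfix ⟨q, hq⟩)
    exact mul_inv_eq_iff_eq_mul.1 h
  have hν1 : ν = 1 := Subtype.ext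
    (inf_eq_bot_of_odd P hMo (hN (Subgroup.centralizer_le_normalizer _ hνC)) ν.2)
  have h1 : θ ν = θ m ^ Fintype.card (P : Subgroup G) := by
    rw [hν, map_prod, ← Finset.card_univ, ← Finset.prod_const]
    refine Finset.prod_congr rfl fun p _ => ?_
    exact (mem_St M).1 (hθ p.2) m
  rw [hν1, map_one] at h1
  haveI := Fact.mk Nat.prime_two
  obtain ⟨k, hk⟩ := IsPGroup.iff_card.1 P.isPGroup'
  rw [← Nat.card_eq_fintype_card, hk] at h1
  exact eq_one_of_odd h1.symm hMo (by rw [← map_pow, pow_card_eq_one', map_one])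

theorem mem_of_selfNormalizing (P : Sylow 2 G)
    (hN : Subgroup.normalizer ((P : Subgroup G) : Set G) ≤ (P : Subgroup G)) {L : Subgroup G} [L.Normal]
    (hPL : (P : Subgroup G) ≤ L) (x : G) : x ∈ L := by
  haveI := Fact.mk Nat.prime_two
  obtain ⟨h, hh, hn⟩ := RealDegreeBijection.exists_mem_normalizer_mul P hPL (g := x)
    (fun z hz => (inferInstance : L.Normal).conj_mem z (hPL hz) x)
  exact (L.mul_mem_cancel_left hh).1 (hPL (hN hn))

/-- The induction hypothesis. -/
def BelowReal (n : ℕ) : Prop :=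
  ∀ (Q : Type u) [Group Q] [Finite Q] [Group.IsSolvable Q], Nat.card Q < n → ∀ S : Sylow 2 Q,
    AllReal Q ↔ Good S

theorem card_quot_lt' (M : Subgroup G) (hne : M ≠ ⊥) : Nat.card (G ⧸ M) < Nat.card G := by
  rw [Subgroup.card_eq_card_quotient_mul_card_subgroup M]
  exact lt_mul_of_one_lt_right Nat.card_pos ((Subgroup.one_lt_card_iff_ne_bot M).2 hne)

theorem allReal_step [Group.IsSolvable G] (hIH : BelowReal.{u} (Nat.card G)) (M : Subgroup G) [M.Normal]
    (hM : ∀ a b : M, a * b = b * a) (hne : M ≠ ⊥) (h2 : (∀ m : M, m * m = 1) ∨ Odd (Nat.card M))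
    (P : Sylow 2 G) (hgood : Good P) : AllReal G := by
  haveI := Fact.mk Nat.prime_two
  haveI := Fintype.ofFinite G
  haveI := Fintype.ofFinite M
  intro χ ho
  obtain ⟨θ, hP, hc⟩ := exists_fixed_constituent M P hM χ ho
  rcases h2 with h2 | hMo
  · haveI := Fintype.ofFinite (St M θ)
    have hθ2 : ∀ m, θ m * θ m = 1 := fun m => by rw [← map_mul, h2, map_one]
    obtain ⟨ψ, hind, hiso⟩ := exists_res M θ χ hc
    refine (real_iff_of_ind M hθ2 hind.symm hiso).2 ?_
    have hψo := odd_of_ind M hind.symm ho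
    obtain ⟨d, hdM, -⟩ := exists_det (θ := stChar M θ) (fun m => hθ2 _) ψ hψo hiso
    have hgI := good_subtype P hgood hP
    have hd : ∀ x, d x * d x = 1 := by
      intro x
      have hx := mem_of_selfNormalizing (P.subtype hP) hgI.1 (L := (d * d).ker) (fun z hz => by
        rw [MonoidHom.mem_ker, MonoidHom.mul_apply]
        exact hgI.2 (d.comp (P.subtype hP : Subgroup (St M θ)).subtype) ⟨z, hz⟩) x
      rwa [MonoidHom.mem_ker, MonoidHom.mul_apply] at hx
    let f := QuotientGroup.mk' (M.subgroupOf (St M θ))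
    let S := (P.subtype hP).mapSurjective (QuotientGroup.mk'_surjective (M.subgroupOf (St M θ)))
    have hQ := (hIH _ (card_quot_lt M hne (St M θ) (le_St M θ)) S).2
      (good_map _ hgI f (QuotientGroup.mk'_surjective _) S rfl)
    intro t
    have h := real_of_iso_one f (QuotientGroup.mk'_surjective _) (QuotientGroup.ker_mk' _) hQ
      ⟨_, isIrr_mul_linear ψ.2 d⟩ (by
        show Odd (charDegree ((ψ : _ → ℂ) * fun g => (d g : ℂ)))
        rw [charDegree_mul]; exact hψo)
      (iso_mul hiso d (fun m => by rw [hdM]; exact hθ2 _)) t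
    have e : (ψ : St M θ → ℂ) t = ((ψ : St M θ → ℂ) t * (d t : ℂ)) * (d t : ℂ) := by
      rw [mul_assoc, ← Units.val_mul, hd, Units.val_one, mul_one]
    rw [e, Complex.mul_im, show ((ψ : St M θ → ℂ) t * (d t : ℂ)).im = 0 from h, real_of_mul_self (hd t)]
    simp
  · rw [fixed_eq_one M hM hMo P hgood.1 θ hP] at hc
    exact real_of_iso_one (QuotientGroup.mk' M) (QuotientGroup.mk'_surjective _) (QuotientGroup.ker_mk' _)
      ((hIH _ (card_quot_lt' M hne) (P.mapSurjective (QuotientGroup.mk'_surjective M))).2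
        (good_map P hgood _ (QuotientGroup.mk'_surjective _) _ rfl)) χ ho
      (iso_of_invariant (fun g => funext fun m => rfl) χ hc)

theorem good_step [Group.IsSolvable G] (hIH : BelowReal.{u} (Nat.card G)) (M : Subgroup G) [M.Normal]
    (hM : ∀ a b : M, a * b = b * a) (hne : M ≠ ⊥) (h2 : (∀ m : M, m * m = 1) ∨ Odd (Nat.card M))
    (P : Sylow 2 G) (hreal : AllReal G) : Good P := by
  haveI := Fact.mk Nat.prime_two
  haveI := Fintype.ofFinite G
  haveI := Fintype.ofFinite M
  let f := QuotientGroup.mk' M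
  have hf : Function.Surjective f := QuotientGroup.mk'_surjective M
  let S := P.mapSurjective hf
  have hQ : Good S := (hIH _ (card_quot_lt' M hne) S).1 (allReal_of_surj f hf hreal)
  have hpre : ∀ x ∈ Subgroup.normalizer ((P : Subgroup G) : Set G), ∃ p ∈ (P : Subgroup G), p⁻¹ * x ∈ M := by
    intro x hx
    have h1 : f x ∈ (S : Subgroup (G ⧸ M)) :=
      hQ.1 (Subgroup.le_normalizer_map f ⟨x, hx, rfl⟩)
    obtain ⟨p, hp, hpe⟩ := h1
    exact ⟨p, hp, QuotientGroup.eq.1 hpe⟩
  rcases h2 with h2 | hMo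
  · have hMP : M ≤ (P : Subgroup G) := by
      refine IsPGroup.le_sylow_of_normal (fun m => ⟨1, ?_⟩) P
      rw [pow_one, pow_two]; exact h2 m
    refine ⟨fun x hx => ?_, fun μ x => ?_⟩
    · obtain ⟨p, hp, hm⟩ := hpre x hx
      exact ((P : Subgroup G).mul_mem_cancel_left (inv_mem hp)).1 (hMP hm)
    set θ : M →* ℂˣ := μ.comp (Subgroup.inclusion hMP) with hθ
    have hθ2 : ∀ m, θ m * θ m = 1 := fun m => by rw [← map_mul, h2, map_one]
    have hP : (P : Subgroup G) ≤ St M θ := by
      intro y hy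
      rw [mem_St]
      intro m
      show μ _ = μ _
      rw [show (Subgroup.inclusion hMP ⟨y * m * y⁻¹, (inferInstance : M.Normal).conj_mem m m.2 y⟩) =
        (⟨y, hy⟩ : (P : Subgroup G)) * Subgroup.inclusion hMP m * (⟨y, hy⟩ : (P : Subgroup G))⁻¹ from
        Subtype.ext rfl, map_mul, map_mul, map_inv, mul_comm (μ _), mul_inv_cancel_right]
    haveI := Fintype.ofFinite (St M θ)
    haveI := Fintype.ofFinite (M.subgroupOf (St M θ))
    let PI : Sylow 2 (St M θ) := P.subtype hP
    let μI : (PI : Subgroup (St M θ)) →* ℂˣ := μ.comp (Subgroup.subgroupOfEquivOfLe hP).toMonoidHom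
    haveI := Fintype.ofFinite (PI : Subgroup (St M θ))
    have hreal' : ∀ ψ : IrrCharacter (St M θ), Iso (M.subgroupOf (St M θ)) (stChar M θ) ψ.1 →
        Odd (charDegree (ψ : St M θ → ℂ)) → ∀ t, ((ψ : St M θ → ℂ) t).im = 0 := by
      intro ψ hiso hψo
      obtain ⟨χ, hχ, -, -⟩ := exists_ind M θ ψ hiso
      refine (real_iff_of_ind M hθ2 hχ hiso).1 (hreal χ ?_)
      rw [charDegree_of_ind hχ]
      exact (odd_index P hP).mul hψo
    have hφ : IsCharacter (St M θ) (indFun (PI : Subgroup (St M θ)) fun y => (μI y : ℂ)) :=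
      IsCharacter.indFun _ (IsIrrCharacter.isCharacter (isIrrCharacter_unitsHom μI))
    have hφ1 : indFun (PI : Subgroup (St M θ)) (fun y => (μI y : ℂ)) 1 =
        ((PI : Subgroup (St M θ)).index : ℂ) := by
      rw [indFun_one, map_one, Units.val_one, mul_one]
    have hiso : Iso (M.subgroupOf (St M θ)) (stChar M θ)
        (indFun (PI : Subgroup (St M θ)) fun y => (μI y : ℂ)) := by
      intro m
      have hx : ∀ x : St M θ, extendByZero (PI : Subgroup (St M θ)) (fun y => (μI y : ℂ))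
          (x⁻¹ * (m : St M θ) * x) = (stChar M θ m : ℂ) := by
        intro x
        have hm' : x⁻¹ * (m : St M θ) * x ∈ M.subgroupOf (St M θ) := by
          simpa using (inferInstance : (M.subgroupOf (St M θ)).Normal).conj_mem _ m.2 x⁻¹
        have hmP : x⁻¹ * (m : St M θ) * x ∈ (PI : Subgroup (St M θ)) := hMP hm'
        rw [extendByZero_of_mem _ _ hmP]
        have h6 := congrFun (stChar_inv M θ x⁻¹) m
        simp only [Characters.conjFun, cf, inv_inv] at h6
        exact h6
      rw [indFun_apply, Finset.sum_congr rfl fun x _ => hx x, hφ1, Finset.sum_const, Finset.card_univ,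
        nsmul_eq_mul, ← Nat.card_eq_fintype_card, ← mul_assoc, ← (PI : Subgroup (St M θ)).index_mul_card,
        Nat.cast_mul]
      have hc : (Nat.card (PI : Subgroup (St M θ)) : ℂ) ≠ 0 := by exact_mod_cast Nat.card_pos.ne'
      field_simp
    obtain ⟨ψ, hψo, hψc⟩ := exists_odd_constituent hφ hφ1 (odd_index PI le_rfl)
    have hψiso := iso_of_constituent hφ hiso ψ hψc
    obtain ⟨d, hdM, hd'⟩ := exists_det (θ := stChar M θ) (fun m => hθ2 _) ψ hψo hψiso
    have hd := hd' (hreal' ψ hψiso hψo)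
    let g := QuotientGroup.mk' (M.subgroupOf (St M θ))
    have hg : Function.Surjective g := QuotientGroup.mk'_surjective _
    have hQI : AllReal (↥(St M θ) ⧸ M.subgroupOf (St M θ)) := by
      intro η hη y
      obtain ⟨t, rfl⟩ := hg y
      have h := hreal' ⟨_, isIrr_mul_linear (IsIrrCharacter.comp_surjective η.2 g hg) d⟩
        (iso_mul (iso_comp g (QuotientGroup.ker_mk' _).ge (η : _ → ℂ)) d
          (fun m => by rw [hdM]; exact one_mul _))
        (by
          show Odd (charDegree (((η : _ → ℂ) ∘ g) * fun x => (d x : ℂ)))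
          rw [charDegree_mul ⟨_, IsIrrCharacter.comp_surjective η.2 g hg⟩ d, charDegree_comp]
          exact hη) t
      have e : (η : _ → ℂ) (g t) = ((η : _ → ℂ) (g t) * (d t : ℂ)) * (d t : ℂ) := by
        rw [mul_assoc, ← Units.val_mul, hd, Units.val_one, mul_one]
      rw [e, Complex.mul_im, show ((η : _ → ℂ) (g t) * (d t : ℂ)).im = 0 from h, real_of_mul_self (hd t)]
      simp
    have hSI := ((hIH _ (card_quot_lt M hne (St M θ) (le_St M θ)) (PI.mapSurjective hg)).1 hQI).2
    let gP := g.subgroupMap (PI : Subgroup (St M θ))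
    have hgP : Function.Surjective gP := g.subgroupMap_surjective _
    let ν : (PI : Subgroup (St M θ)) →* ℂˣ := μI * d.comp (PI : Subgroup (St M θ)).subtype
    have hν : gP.ker ≤ ν.ker := by
      intro z hz
      have hzM : (z : St M θ) ∈ M.subgroupOf (St M θ) := by
        rw [← QuotientGroup.ker_mk' (M.subgroupOf (St M θ))]
        exact congrArg Subtype.val (MonoidHom.mem_ker.1 hz)
      show μI z * d (z : St M θ) = 1
      rw [show d (z : St M θ) = stChar M θ ⟨_, hzM⟩ from hdM ⟨_, hzM⟩]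
      exact hθ2 ⟨((z : St M θ) : G), hzM⟩
    have h1 := hSI (gP.liftOfSurjective hgP ⟨ν, hν⟩) (gP ((Subgroup.subgroupOfEquivOfLe hP).symm x))
    have hlift : ∀ y, gP.liftOfSurjective hgP ⟨ν, hν⟩ (gP y) = ν y := fun y =>
      MonoidHom.liftOfRightInverse_comp_apply gP _ (Function.rightInverse_surjInv hgP) ⟨ν, hν⟩ y
    replace h1 : ν ((Subgroup.subgroupOfEquivOfLe hP).symm x) * ν ((Subgroup.subgroupOfEquivOfLe hP).symm x) = 1 :=
      (congrArg₂ (· * ·) (hlift _) (hlift _)).symm.trans h1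
    have h3 : ν ((Subgroup.subgroupOfEquivOfLe hP).symm x) =
        μ x * d ((Subgroup.subgroupOfEquivOfLe hP).symm x : St M θ) := by
      show μ ((Subgroup.subgroupOfEquivOfLe hP) ((Subgroup.subgroupOfEquivOfLe hP).symm x)) * _ = _
      rw [MulEquiv.apply_symm_apply]
      rfl
    rw [h3, mul_mul_mul_comm, hd, mul_one] at h1
    exact h1
  · refine ⟨fun x hx => ?_, fun μ x => ?_⟩
    swap
    · let fP := f.subgroupMap (P : Subgroup G)
      have hbij : Function.Bijective fP := by
        refine ⟨(injective_iff_map_eq_one fP).2 fun z hz => Subtype.ext ?_, f.subgroupMap_surjective _⟩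
        exact inf_eq_bot_of_odd P hMo z.2 ((QuotientGroup.eq_one_iff (z : G)).1 (congrArg Subtype.val hz))
      have h1 := hQ.2 (μ.comp (MulEquiv.ofBijective fP hbij).symm.toMonoidHom) (fP x)
      have e : (MulEquiv.ofBijective fP hbij).symm (fP x) = x :=
        (MulEquiv.ofBijective fP hbij).symm_apply_apply x
      change μ ((MulEquiv.ofBijective fP hbij).symm (fP x)) * μ ((MulEquiv.ofBijective fP hbij).symm (fP x)) = 1 at h1
      rwa [e] at h1
    obtain ⟨p, hp, hm⟩ := hpre x hx
    suffices hm1 : p⁻¹ * x = 1 by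
      rw [inv_mul_eq_one] at hm1
      exact hm1 ▸ hp
    by_contra hm1
    set N := Subgroup.normalizer ((P : Subgroup G) : Set G) with hN
    set C := M ⊓ N with hC
    have hmC : p⁻¹ * x ∈ C := ⟨hm, N.mul_mem (N.inv_mem (Subgroup.le_normalizer hp)) hx⟩
    letI : CommGroup C := { (inferInstance : Group C) with
      mul_comm := fun a b => Subtype.ext (congrArg (fun z : M => (z : G)) (hM ⟨_, a.2.1⟩ ⟨_, b.2.1⟩)) }
    obtain ⟨θ, hθ⟩ := CommGroup.exists_apply_ne_one_of_hasEnoughRootsOfUnity C ℂ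
      (a := ⟨_, hmC⟩) (fun h => hm1 (congrArg Subtype.val h))
    have hcomm : ∀ (a : (P : Subgroup G)) (c : C), Commute (a : G) (c : G) := by
      intro a c
      have h1 : (a : G) * c * (a : G)⁻¹ * (c : G)⁻¹ ∈ M :=
        M.mul_mem ((inferInstance : M.Normal).conj_mem _ c.2.1 a) (inv_mem c.2.1)
      have h2 : (a : G) * c * (a : G)⁻¹ * (c : G)⁻¹ ∈ (P : Subgroup G) := by
        have := (P : Subgroup G).mul_mem a.2 ((Subgroup.mem_normalizer_iff.1 c.2.2 _).1 (inv_mem a.2))
        simpa [mul_assoc] using this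
      have h3 := inf_eq_bot_of_odd P hMo h2 h1
      rw [mul_inv_eq_one, mul_inv_eq_iff_eq_mul] at h3
      exact h3
    let φ0 := MonoidHom.noncommCoprod (P : Subgroup G).subtype C.subtype hcomm
    have hinj : Function.Injective φ0 := by
      refine (injective_iff_map_eq_one φ0).2 fun z hz => ?_
      have e : (z.1 : G) * (z.2 : G) = 1 := hz
      have e1 : (z.1 : G) = (z.2 : G)⁻¹ := eq_inv_of_mul_eq_one_left e
      have h1 : (z.1 : G) = 1 := inf_eq_bot_of_odd P hMo z.1.2 (e1 ▸ inv_mem z.2.2.1)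
      have h2 : (z.2 : G) = 1 := by rwa [h1, one_mul] at e
      exact Prod.ext (Subtype.ext h1) (Subtype.ext h2)
    let e0 := MonoidHom.ofInjective hinj
    let H : Subgroup G := φ0.range
    haveI := Fintype.ofFinite H
    let μ : H →* ℂˣ := θ.comp ((MonoidHom.snd _ _).comp e0.symm.toMonoidHom)
    have hPH : (P : Subgroup G) ≤ H := fun a ha => ⟨(⟨a, ha⟩, 1), mul_one a⟩
    have hφ : IsCharacter G (indFun H fun y => (μ y : ℂ)) :=
      IsCharacter.indFun _ (IsIrrCharacter.isCharacter (isIrrCharacter_unitsHom μ))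
    have hφ1 : indFun H (fun y => (μ y : ℂ)) 1 = (H.index : ℂ) := by
      rw [indFun_one, map_one, Units.val_one, mul_one]
    obtain ⟨χ, hχo, hχc⟩ := exists_odd_constituent hφ hφ1 (odd_index P hPH)
    have hiso := iso_one_of_odd M hM hMo P χ ⟨hreal χ hχo, hχo⟩
    rw [classInner_indFun H _ (irr_isClassFunction χ),
      IsCharacter.classInner_comm (IsIrrCharacter.isCharacter (isIrrCharacter_unitsHom μ))
        (IsCharacter.restrict (irr_isCharacter χ) H)] at hχc
    haveI := Fintype.ofFinite (M.subgroupOf H)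
    have h4 := iso_of_constituent (M := M.subgroupOf H) (θ := 1)
      (IsCharacter.restrict (irr_isCharacter χ) H)
      (fun m => hiso ⟨((m : H) : G), m.2⟩) ⟨_, isIrrCharacter_unitsHom μ⟩ hχc
    have hmH : p⁻¹ * x ∈ H := ⟨(1, ⟨_, hmC⟩), one_mul _⟩
    have h5 := h4 ⟨⟨_, hmH⟩, hm⟩
    simp only [MonoidHom.one_apply, map_one, Units.val_one, mul_one] at h5
    apply hθ
    have h6 : e0.symm ⟨_, hmH⟩ = (1, ⟨_, hmC⟩) := by
      rw [MulEquiv.symm_apply_eq]
      exact Subtype.ext (one_mul _).symm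
    have h7 : μ ⟨_, hmH⟩ = θ ⟨_, hmC⟩ := by
      show θ (e0.symm ⟨_, hmH⟩).2 = _
      rw [h6]
    rw [← h7]
    exact Units.ext h5

theorem allReal_iff_aux : ∀ n : ℕ, BelowReal.{u} n := by
  intro n
  induction n with
  | zero => intro Q _ _ _ h; omega
  | succ n ih =>
    intro Q _ _ _ hQ S
    by_cases h : Nat.card Q < n
    · exact ih Q h S
    have hIH : BelowReal.{u} (Nat.card Q) := fun Q' _ _ _ h' S' => ih Q' (by omega) S'
    rcases subsingleton_or_nontrivial Q with hs | hn
    · refine ⟨fun _ => ⟨fun x _ => ?_, fun μ x => ?_⟩, fun _ χ _ g => ?_⟩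
      · rw [Subsingleton.elim x 1]; exact one_mem _
      · rw [Subsingleton.elim x 1, map_one, one_mul]
      · rw [Subsingleton.elim g 1, charDegree_coe]; exact Complex.natCast_im _
    obtain ⟨M, hMn, hne, hc, h2⟩ := exists_good_normal (G := Q)
    exact ⟨good_step hIH M hc hne h2 S, allReal_step hIH M hc hne h2 S⟩

theorem allReal_iff [Group.IsSolvable G] (P : Sylow 2 G) : AllReal G ↔ Good P :=
  allReal_iff_aux (Nat.card G + 1) G (Nat.lt_succ_self _) P

end Cfsg.Agent.Lib.OddRealCount
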